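import Cfsg.Agent.Lib.BrauerPairs.PIndex
import Cfsg.Agent.Lib.BrauerPairs.BrauerFeit
import Cfsg.Agent.Lib.BrauerPairs.CoverBridge
import Cfsg.Agent.Lib.BlockLocal.NormalInduce
import Cfsg.Agent.Lib.CharTheory.Inflation
import Cfsg.Agent.Lib.Brauer.CharRing
import Mathlib.GroupTheory.FiniteAbelian.Duality

/-!
# Blocks with abelian defect group over a normal subgroup of `p`-power index

The linear characters of the quotient act freely on such a block.
-/

set_option autoImplicit false
set_option linter.style.haveILetI false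
set_option linter.unusedSectionVars false

namespace CfsgLib.BrauerPairs

open Cfsg Finset CfsgLib.CharTheory
open scoped ComplexConjugate

section Dual

variable {A : Type*} [Group A] [Finite A]

/-- Orthogonality of the linear characters of a commutative group. -/
theorem sum_monoidHom_apply (hA : ∀ a b : A, a * b = b * a) [Fintype (A →* ℂˣ)] (a : A)
    [Decidable (a = 1)] :
    ∑ l : A →* ℂˣ, (l a : ℂ) = if a = 1 then (Nat.card A : ℂ) else 0 := by
  letI : CommGroup A := { (inferInstance : Group A) with mul_comm := hA }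
  by_cases h : a = 1
  · rw [if_pos h, ← CommGroup.card_monoidHom_of_hasEnoughRootsOfUnity A ℂ,
      Nat.card_eq_fintype_card]
    simp [h]
  · rw [if_neg h]
    obtain ⟨l₀, hl₀⟩ := CommGroup.exists_apply_ne_one_of_hasEnoughRootsOfUnity A ℂ h
    refine eq_zero_of_mul_eq_self_left (b := (l₀ a : ℂ)) (fun h1 => hl₀ (Units.ext h1)) ?_
    rw [mul_sum]
    refine Fintype.sum_equiv (Equiv.mulLeft l₀) _ _ fun l => ?_
    simp

end Dual

variable {G : Type*} [Group G] [Fintype G] {p : ℕ} [hp : Fact p.Prime] {M : Ideal AlgInt}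
  [hMp : M.IsPrime] {B : Set (IrrCharacter G)}

/-- A member of a block with abelian defect group vanishes on no section of an element of it. -/
theorem exists_apply_mul_ne_zero (hM : IsPModular p M) (hB : IsPBlock M B) {D : Subgroup G}
    (hD : IsDefectGroup p M B D) (hab : ∀ x ∈ D, ∀ y ∈ D, x * y = y * x) {χ : IrrCharacter G}
    (hχ : χ ∈ B) {y : G} (hy : y ∈ D) :
    ∃ s : G, ¬ p ∣ orderOf s ∧ (χ : G → ℂ) (y * s) ≠ 0 := by
  classical
  obtain ⟨k, hk⟩ := IsPGroup.iff_orderOf.1 (Blocks.isPGroup_of_isDefectGroup hD) ⟨y, hy⟩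
  rw [Subgroup.orderOf_mk] at hk
  obtain ⟨b, hind, hbd, -⟩ := exists_major_of_abelian hM hB hD hab hy
  haveI := Fintype.ofFinite (Subgroup.centralizer ({y} : Set G))
  have hne := subNorm_ne_zero hM rfl ⟨k, hk⟩ (yC := BrauerCharacters.cenElem y) rfl hind hbd hχ
  by_contra hcon
  push Not at hcon
  have hall : subNorm (Subgroup.centralizer ({y} : Set G)) p (BrauerCharacters.cenElem y) Set.univ χ
      = 0 := by
    rw [subNorm, sum_eq_zero, mul_zero]
    intro s _
    split_ifs with hs
    · rfl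
    · rw [subFun_univ, Subgroup.coe_mul]
      have := hcon (s : G) (by rwa [Subgroup.orderOf_coe])
      simpa [BrauerCharacters.cenElem] using this
  have hle := sum_subNorm_le (C := Subgroup.centralizer ({y} : Set G)) hM
    (BrauerCharacters.commute_cenElem y) {b}
    (fun c hc => by rw [mem_singleton.1 hc]; exact hind.1) χ
  rw [sum_singleton, hall] at hle
  exact hne (le_antisymm hle (subNorm_nonneg _ _ _ χ))

variable {N : Subgroup G} [hN : N.Normal] [Fintype N]

/-- The members above a block of a normal subgroup of `p`-power index form one block. -/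
theorem redElem_eq_subIdem_of_covers (hM : IsPModular p M) {k : ℕ} (hidx : N.index = p ^ k)
    {b : Set (IrrCharacter N)} (hb : IsPBlock M b)
    (hstab : ∀ g : G, StabilizesBlock N b g) (hB : IsPBlock M B) {χ : IrrCharacter G} (hχ : χ ∈ B)
    {θ : IrrCharacter N} (hθ : θ ∈ b)
    (h : classInner (fun n : N => (χ : G → ℂ) n) (θ : N → ℂ) ≠ 0) :
    redElem M (blockCoeff B) = subIdem M N b := by
  have hfix : subIdem M N b ∈ fixedBy (Blocks.Res M) (⊤ : Subgroup G) := fun g _ =>
    ((stabilizesBlock_iff hb).1 (hstab g)).2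
  have hreg : ∀ x ∈ (⊤ : Subgroup G), ¬ p ∣ orderOf x → x ∈ N := fun x hx =>
    mem_of_relIndex_eq_pow hp.out (K := ⊤) (by rw [Subgroup.normalizer_eq_top N])
      (by rw [Subgroup.relIndex_top_right, hidx]) hx
  exact (isBlockIdem_redElem_blockCoeff (M := M) hB).eq_of_mul_ne_zero
    (isBlockIdem_of_regular hM le_top hreg (isBlockIdem_subIdem hb) hfix)
    ((covers_iff N hB hb).1 ⟨χ, hχ, θ, hθ, h⟩)

/-- The twist by a linear character of the quotient. -/
theorem isIrrCharacter_quotTwist (χ : IrrCharacter G) (l : G ⧸ N →* ℂˣ) :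
    IsIrrCharacter G (fun g => (l (g : G ⧸ N) : ℂ) * (χ : G → ℂ) g) := by
  refine isIrrCharacter_mul_of_norm (μ := fun g : G => (l (g : G ⧸ N) : ℂ)) χ.2
    (Brauer.isCharacter_monoidHom (l.comp (QuotientGroup.mk' N))) fun g => ?_
  refine norm_eq_one_of_pow_eq_one' (orderOf_pos (g : G ⧸ N)).ne' ?_
  rw [← Units.val_pow_eq_pow_val, ← map_pow, pow_orderOf_eq_one, map_one, Units.val_one]

/-- The twisted character. -/
noncomputable def quotTwist (χ : IrrCharacter G) (l : G ⧸ N →* ℂˣ) : IrrCharacter G :=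
  ⟨_, isIrrCharacter_quotTwist χ l⟩

theorem quotTwist_apply (χ : IrrCharacter G) (l : G ⧸ N →* ℂˣ) (g : G) :
    (quotTwist χ l : G → ℂ) g = (l (g : G ⧸ N) : ℂ) * (χ : G → ℂ) g := rfl

theorem quotTwist_res (χ : IrrCharacter G) (l : G ⧸ N →* ℂˣ) (n : N) :
    (quotTwist χ l : G → ℂ) n = (χ : G → ℂ) n := by
  rw [quotTwist_apply, (QuotientGroup.eq_one_iff (n : G)).2 n.2, map_one, Units.val_one, one_mul]

/-- The twists of `χ` sum to the extension by zero of its restriction. -/
theorem sum_classInner_quotTwist (hcomm : ∀ a b : G ⧸ N, a * b = b * a) [Fintype (G ⧸ N →* ℂˣ)]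
    (χ ψ : IrrCharacter G) :
    ∑ l : G ⧸ N →* ℂˣ, classInner (quotTwist χ l : G → ℂ) (ψ : G → ℂ) =
      classInner (fun n : N => (χ : G → ℂ) n) (fun n : N => (ψ : G → ℂ) n) := by
  classical
  simp only [classInner, ← mul_sum, quotTwist_apply]
  rw [sum_comm, sum_congr rfl (g := fun g : G => if g ∈ N then
      (Nat.card (G ⧸ N) : ℂ) * ((χ : G → ℂ) g * conj ((ψ : G → ℂ) g)) else 0) fun g _ => ?_]
  · rw [← sum_filter, sum_subtype (p := fun g => g ∈ N) _ (fun g => by simp), ← mul_sum,
      ← mul_assoc, ← Subgroup.card_mul_index N, Subgroup.index_eq_card, Nat.cast_mul, mul_inv,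
      mul_assoc _ _ (Nat.card (G ⧸ N) : ℂ),
      inv_mul_cancel₀ (Nat.cast_ne_zero.2 Nat.card_pos.ne'), mul_one]
  · simp only [mul_assoc]
    rw [← sum_mul, sum_monoidHom_apply hcomm]
    simp only [QuotientGroup.eq_one_iff]
    split_ifs <;> simp

/-- Characters in a block with abelian defect group restrict irreducibly, and are the twists of
any one of those with the same restriction. -/
theorem res_quotTwist_spec (hM : IsPModular p M) (hB : IsPBlock M B) {D : Subgroup G}
    (hD : IsDefectGroup p M B D) (hab : ∀ x ∈ D, ∀ y ∈ D, x * y = y * x) {k : ℕ}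
    (hidx : N.index = p ^ k) (hND : N ⊔ D = ⊤) {χ : IrrCharacter G} (hχ : χ ∈ B) :
    IsIrrCharacter N (fun n : N => (χ : G → ℂ) n) ∧
      Function.Injective (fun l : G ⧸ N →* ℂˣ => quotTwist χ l) ∧
      (∀ ψ : IrrCharacter G, (∀ n : N, (ψ : G → ℂ) n = (χ : G → ℂ) n) →
        ∃ l : G ⧸ N →* ℂˣ, quotTwist χ l = ψ) ∧
      Nat.card (G ⧸ N →* ℂˣ) = N.index := by
  classical
  have hq : ∀ a : G ⧸ N, ∃ x ∈ D, (x : G ⧸ N) = a := by
    intro a
    obtain ⟨g, rfl⟩ := QuotientGroup.mk_surjective a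
    have hg : g ∈ N ⊔ D := hND ▸ Subgroup.mem_top g
    obtain ⟨n, hn, x, hx, rfl⟩ := Subgroup.mem_sup_of_normal_left.1 hg
    refine ⟨x, hx, ?_⟩
    rw [QuotientGroup.mk_mul, (QuotientGroup.eq_one_iff n).2 hn, one_mul]
  have hcomm : ∀ a b : G ⧸ N, a * b = b * a := fun a b => by
    obtain ⟨x, hx, rfl⟩ := hq a
    obtain ⟨y, hy, rfl⟩ := hq b
    rw [← QuotientGroup.mk_mul, ← QuotientGroup.mk_mul, hab x hx y hy]
  letI : CommGroup (G ⧸ N) := { (inferInstance : Group (G ⧸ N)) with mul_comm := hcomm }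
  haveI := Fintype.ofFinite (G ⧸ N →* ℂˣ)
  have hfree : ∀ l : G ⧸ N →* ℂˣ, quotTwist χ l = χ → l = 1 := by
    intro l hl
    refine MonoidHom.ext fun a => ?_
    obtain ⟨x, hx, rfl⟩ := hq a
    obtain ⟨s, hs, hne⟩ := exists_apply_mul_ne_zero hM hB hD hab hχ hx
    have hsN : s ∈ N := mem_of_relIndex_eq_pow hp.out (K := ⊤)
      (by rw [Subgroup.normalizer_eq_top N]) (by rw [Subgroup.relIndex_top_right, hidx])
      (Subgroup.mem_top s) hs
    have h := congrFun (congrArg Subtype.val hl) (x * s)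
    rw [quotTwist_apply, QuotientGroup.mk_mul, (QuotientGroup.eq_one_iff s).2 hsN, mul_one] at h
    rw [MonoidHom.one_apply]
    exact Units.ext (by rw [Units.val_one]; exact (mul_eq_right₀ hne).1 h)
  have hnorm : classInner (fun n : N => (χ : G → ℂ) n) (fun n : N => (χ : G → ℂ) n) = 1 := by
    rw [← sum_classInner_quotTwist hcomm χ χ, sum_eq_single (1 : G ⧸ N →* ℂˣ)]
    · rw [show (quotTwist χ (1 : G ⧸ N →* ℂˣ) : G → ℂ) = (χ : G → ℂ) from
        funext fun g => by simp [quotTwist_apply]]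
      exact classInner_self_of_isIrr χ.2
    · intro l _ hl
      exact classInner_eq_zero_of_ne (quotTwist χ l).2 χ.2 fun h => hl (hfree l (Subtype.ext h))
    · exact fun h => absurd (mem_univ _) h
  refine ⟨(isIrrCharacter_iff_norm_one (Brauer.isCharacter_res (IsIrrCharacter.isCharacter χ.2) N)).2
    hnorm, ?_, ?_, ?_⟩
  · intro l l' h
    refine inv_mul_eq_one.1 (hfree _ (Subtype.ext (funext fun g => ?_)))
    have h1 := congrFun (congrArg Subtype.val h) g
    simp only [quotTwist_apply] at h1 ⊢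
    rw [MonoidHom.mul_apply, Units.val_mul, mul_assoc, ← h1, ← mul_assoc, ← Units.val_mul,
      ← MonoidHom.mul_apply, inv_mul_cancel, MonoidHom.one_apply, Units.val_one, one_mul]
  · intro ψ hψ
    by_contra hcon
    push Not at hcon
    have h := sum_classInner_quotTwist hcomm χ ψ
    rw [sum_eq_zero (fun l _ => classInner_eq_zero_of_ne (quotTwist χ l).2 ψ.2
      fun h => hcon l (Subtype.ext h)), funext hψ, hnorm] at h
    exact zero_ne_one h
  · rw [CommGroup.card_monoidHom_of_hasEnoughRootsOfUnity (G ⧸ N) ℂ, ← Subgroup.index_eq_card]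

/-- The intersection with the normal subgroup is a defect group of the stable block. -/
theorem isDefectGroup_inf (hM : IsPModular p M) (hB : IsPBlock M B) {b : Set (IrrCharacter N)}
    (hb : IsPBlock M b) (hBb : redElem M (blockCoeff B) = subIdem M N b) {P : Subgroup G}
    (hP : IsDefectGroup p M B P) : IsDefectGroup p M b ((P ⊓ N).subgroupOf N) := by
  classical
  haveI : M.IsMaximal := hM.2.1
  haveI := Blocks.charP_res hM
  haveI : IsAlgClosed (Blocks.Res M) := Blocks.isAlgClosed_res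
  have hc := isBlockIdem_subIdem (M := M) hb
  have hPin := (isDefectGroup_iff hM hB).1 hP
  rw [hBb] at hPin
  obtain ⟨D, hD⟩ := exists_isDefectIn (p := p) (H := N) (K := N) le_rfl Subgroup.le_normalizer hc
    (mem_ctr.1 hc.mem).2
  have hbr : brau (P ⊓ N) (subIdem M N b) ≠ 0 := by
    intro h0
    apply hPin.2.2.1
    ext g
    have hg' := congrArg (fun x => x.coeff g) h0
    simp only [brau] at hg' ⊢
    by_cases hg : g ∈ Subgroup.centralizer (P : Set G)
    · rw [coeff_trunc_of_mem hg]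
      rwa [coeff_trunc_of_mem (Subgroup.centralizer_le (SetLike.coe_subset_coe.2 inf_le_left) hg)]
        at hg'
    · rw [coeff_trunc_of_not_mem hg]
      simp
  obtain ⟨c, hc', hle⟩ := hD.exists_conj_le (hPin.2.1.to_le inf_le_left) inf_le_right hbr
  have hD' : IsDefectIn p N N (subIdem M N b) D := hD
  obtain ⟨x, -, hDP⟩ := hPin.exists_conj_le hD.2.1 le_top hD.2.2.1
  have hcard : Nat.card D ≤ Nat.card ↥(P ⊓ N) := by
    let f : D → ↥(P ⊓ N) := fun d => ⟨x⁻¹ * d * x, hDP d d.2, by
      simpa using hN.conj_mem d (hD.1 d.2) x⁻¹⟩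
    refine Nat.card_le_card_of_injective f fun a a' h => Subtype.ext ?_
    simpa [f] using congrArg (fun z : ↥(P ⊓ N) => x * (z : G) * x⁻¹) h
  have hPD : P ⊓ N = D.map (MulAut.conj c).toMonoidHom :=
    Subgroup.eq_of_le_of_card_ge (map_conj_inv_le hle) (by
      rw [Subgroup.card_map_of_injective (MulAut.conj c).injective]; exact hcard)
  rw [isDefectGroup_sub_iff hM hb, Subgroup.subgroupOf_map_subtype,
    inf_eq_left.2 (inf_le_right : P ⊓ N ≤ N), hPD]
  have h := hD'.conj_cj c
  rwa [cj_of_mem hc', (mem_fixedBy.1 (mem_ctr.1 hc.mem).2 c hc')] at h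

end CfsgLib.BrauerPairs
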