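import Cfsg.Agent.Lib.BrauerPairs.Nilpotent
import Mathlib.RingTheory.Nilpotent.Lemmas
import Mathlib.RingTheory.Artinian.Ring

/-!
# Blocks of normal subgroups
-/

noncomputable section

namespace CfsgLib.BrauerPairs

open MonoidAlgebra

variable {k : Type*} [Field k] {G : Type*} [Group G]

/-- Elements supported on the coset `t N`. -/
def InCoset (N : Subgroup G) (t : G) (x : MonoidAlgebra k G) : Prop :=
  ∀ g, t⁻¹ * g ∉ N → x.coeff g = 0

theorem InCoset.single_inv_mul {N : Subgroup G} {t : G} {x : MonoidAlgebra k G}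
    (hx : InCoset N t x) : single t⁻¹ (1 : k) * x ∈ supp k N := by
  intro g hg
  rw [MonoidAlgebra.coeff_single_mul_apply, one_mul, inv_inv]
  exact hx _ (by simpa using hg)

theorem inCoset_one_of_supp {N : Subgroup G} {x : MonoidAlgebra k G} (hx : x ∈ supp k N) :
    InCoset N 1 x := fun g hg => hx g (by simpa using hg)

theorem supp_of_inCoset {N : Subgroup G} {t : G} (ht : t ∈ N) {x : MonoidAlgebra k G}
    (hx : InCoset N t x) : x ∈ supp k N :=
  fun g hg => hx g fun h => hg (by simpa using N.mul_mem ht h)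

theorem InCoset.mul {N : Subgroup G} {s t : G} (ht : t ∈ Subgroup.normalizer (N : Set G))
    {x y : MonoidAlgebra k G} (hx : InCoset N s x) (hy : InCoset N t y) :
    InCoset N (s * t) (x * y) := by
  classical
  intro g hg
  rw [MonoidAlgebra.coeff_mul]
  refine Finset.sum_eq_zero fun a _ => Finset.sum_eq_zero fun b _ => ?_
  dsimp only
  split_ifs with hab
  · by_cases ha : s⁻¹ * a ∈ N
    · have hb : t⁻¹ * b ∉ N := by
        intro hb
        apply hg
        have := N.mul_mem ((Subgroup.mem_normalizer_iff''.1 ht _).1 ha) hb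
        simpa [← hab, mul_assoc] using this
      rw [hy b hb, mul_zero]
    · rw [hx a ha, zero_mul]
  · rfl

/-- Moving a central element of `k[N]` past a homogeneous element. -/
theorem InCoset.mul_ctr {N : Subgroup G} {t : G} {y a : MonoidAlgebra k G}
    (hy : InCoset N t y) (ha : a ∈ ctr k N) : y * a = conjA t a * y := by
  have h1 : y = single t (1 : k) * (single t⁻¹ 1 * y) := by
    rw [← mul_assoc, single_mul_single, mul_inv_cancel, one_mul, ← MonoidAlgebra.one_def, one_mul]
  have hcomm := (commute_of_fixedBy_of_supp (mem_ctr.1 ha).2 hy.single_inv_mul).eq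
  have h2 : single t (1 : k) * a = conjA t a * single t 1 := by
    ext g
    rw [MonoidAlgebra.coeff_single_mul_apply, MonoidAlgebra.coeff_mul_single_apply, coeff_conjA,
      one_mul, mul_one]
    congr 1
    group
  rw [h1, mul_assoc, ← hcomm, ← mul_assoc, h2, mul_assoc]

/-- The part of `x` on the coset `t N`. -/
def cosetPart (N : Subgroup G) (t : G) (x : MonoidAlgebra k G) : MonoidAlgebra k G := by
  classical exact ofCoeff (x.coeff.filter fun g => t⁻¹ * g ∈ N)

theorem coeff_cosetPart_of_mem {N : Subgroup G} {t g : G} (h : t⁻¹ * g ∈ N)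
    (x : MonoidAlgebra k G) : (cosetPart N t x).coeff g = x.coeff g := by
  classical
  simp [cosetPart, h]

theorem coeff_cosetPart_of_not_mem {N : Subgroup G} {t g : G} (h : t⁻¹ * g ∉ N)
    (x : MonoidAlgebra k G) : (cosetPart N t x).coeff g = 0 := by
  classical
  simp [cosetPart, h]

theorem cosetPart_inCoset (N : Subgroup G) (t : G) (x : MonoidAlgebra k G) :
    InCoset N t (cosetPart N t x) := fun _ hg => coeff_cosetPart_of_not_mem hg x

theorem cosetPart_mul {N : Subgroup G} (t : G) (x : MonoidAlgebra k G) {c : MonoidAlgebra k G}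
    (hc : c ∈ supp k N) : cosetPart N t (x * c) = cosetPart N t x * c := by
  classical
  ext g
  rw [MonoidAlgebra.coeff_mul]
  have hiff : ∀ a b : G, b ∈ N → a * b = g → (t⁻¹ * a ∈ N ↔ t⁻¹ * g ∈ N) := by
    intro a b hb hab
    rw [← hab, ← mul_assoc, Subgroup.mul_mem_cancel_right _ hb]
  have key : ∀ a b : G, (if a * b = g then (cosetPart N t x).coeff a * c.coeff b else 0) =
      if t⁻¹ * g ∈ N then (if a * b = g then x.coeff a * c.coeff b else 0) else 0 := by
    intro a b
    split_ifs with hab hg hg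
    · by_cases hb : b ∈ N
      · rw [coeff_cosetPart_of_mem ((hiff a b hb hab).2 hg)]
      · rw [hc b hb, mul_zero, mul_zero]
    · by_cases hb : b ∈ N
      · rw [coeff_cosetPart_of_not_mem (fun h => hg ((hiff a b hb hab).1 h)), zero_mul]
      · rw [hc b hb, mul_zero]
    · rfl
    · rfl
  by_cases hg : t⁻¹ * g ∈ N
  · rw [coeff_cosetPart_of_mem hg, MonoidAlgebra.coeff_mul]
    simp only [Finsupp.sum, key, if_pos hg]
    refine (Finset.sum_subset (s₁ := (cosetPart N t x).coeff.support) ?_ ?_).symm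
    · intro a ha
      rw [Finsupp.mem_support_iff] at ha ⊢
      by_cases hta : t⁻¹ * a ∈ N
      · rwa [coeff_cosetPart_of_mem hta] at ha
      · exact absurd (coeff_cosetPart_of_not_mem hta x) ha
    · intro a _ ha
      rw [Finsupp.notMem_support_iff] at ha
      refine Finset.sum_eq_zero fun b _ => ?_
      have := key a b
      rw [if_pos hg, ha] at this
      rw [← this]
      simp
  · rw [coeff_cosetPart_of_not_mem hg]
    simp [key, hg, Finsupp.sum]

theorem cosetPart_mem_fixedBy {N K : Subgroup G} {t : G} (hNK : N ≤ K)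
    (ht : t ∈ Subgroup.normalizer (N : Set G)) {x : MonoidAlgebra k G} (hx : x ∈ fixedBy k K) :
    cosetPart N t x ∈ fixedBy k N := by
  rw [mem_fixedBy_coeff]
  intro n hn g
  have h1 : t⁻¹ * n * t ∈ N := (Subgroup.mem_normalizer_iff''.1 ht n).1 hn
  have hiff : t⁻¹ * (n * g * n⁻¹) ∈ N ↔ t⁻¹ * g ∈ N := by
    rw [show t⁻¹ * (n * g * n⁻¹) = (t⁻¹ * n * t) * (t⁻¹ * g) * n⁻¹ by group,
      Subgroup.mul_mem_cancel_right _ (N.inv_mem hn), Subgroup.mul_mem_cancel_left _ h1]
  by_cases hg : t⁻¹ * g ∈ N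
  · rw [coeff_cosetPart_of_mem hg, coeff_cosetPart_of_mem (hiff.2 hg),
      mem_fixedBy_coeff.1 hx n (hNK hn) g]
  · rw [coeff_cosetPart_of_not_mem hg, coeff_cosetPart_of_not_mem fun h => hg (hiff.1 h)]

theorem trunc_cosetPart (S N : Subgroup G) (t : G) (x : MonoidAlgebra k G) :
    trunc S (cosetPart N t x) = cosetPart N t (trunc S x) := by
  ext g
  by_cases hS : g ∈ S <;> by_cases hN : t⁻¹ * g ∈ N <;>
    simp [coeff_trunc_of_mem, coeff_trunc_of_not_mem, coeff_cosetPart_of_mem,
      coeff_cosetPart_of_not_mem, hS, hN]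

variable [Finite G] {p : ℕ} [Fact p.Prime] [CharP k p]

/-- A block of `T` under a `T`-stable block `c` of the normal subgroup `N` is not killed by the
Brauer map at a defect group of `c`. -/
theorem brau_ne_zero_of_covers {T N D : Subgroup G} (hNT : N ≤ T)
    (hTN : T ≤ Subgroup.normalizer (N : Set G)) {c b : MonoidAlgebra k G} (hc : IsBlockIdem N c)
    (hcT : c ∈ fixedBy k T) (hD : IsDefectIn p N N c D) (hb : b ∈ ctr k T) (hbb : b * b = b)
    (hb0 : b ≠ 0) (hbc : b * c = b) : brau D b ≠ 0 := by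
  classical
  intro hbr
  haveI := Fintype.ofFinite G
  haveI := Fintype.ofFinite T
  haveI := Fintype.ofFinite (↥T ⧸ N.subgroupOf T)
  set NIL : Set (MonoidAlgebra k G) := {x | x ∈ ctr k N ∧ x * c = x ∧ IsNilpotent x}
  set HOM : G → Set (MonoidAlgebra k G) :=
    fun t => {y | y ∈ fixedBy k N ∧ InCoset N t y ∧ y * c = y}
  -- homogeneous elements killed by the Brauer map have nilpotent products in degree one
  have hkill : ∀ t, ∀ y ∈ HOM t, brau D y = 0 → ∀ z, z ∈ fixedBy k N → y * z ∈ supp k N →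
      z * c = z → y * z ∈ NIL := by
    intro t y hy hy0 z hz hyz hzc
    have hm : y * z ∈ ctr k N := mem_ctr.2 ⟨hyz, mul_mem hy.1 hz⟩
    have hmc : y * z * c = y * z := by rw [mul_assoc, hzc]
    refine ⟨hm, hmc, ?_⟩
    rcases hc.nilpotent_or_inverse hm with h | ⟨w, hw, -, hwy⟩
    · rwa [hmc] at h
    exfalso
    apply hD.2.2.1
    rw [hmc] at hwy
    have hwD : w ∈ fixedBy k D := fixedBy_anti hD.1 (mem_ctr.1 hw).2
    rw [← hwy, trunc_centralizer_mul hD.2.1 hwD (fixedBy_anti hD.1 (mem_ctr.1 hm).2),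
      trunc_centralizer_mul hD.2.1 (fixedBy_anti hD.1 hy.1) (fixedBy_anti hD.1 hz), hy0, zero_mul,
      mul_zero]
  -- the components of `b`
  let comp : ↥T ⧸ N.subgroupOf T → MonoidAlgebra k G := fun q =>
    cosetPart N ((q.out : T) : G) b
  have hcomp_coeff : ∀ q g, (comp q).coeff g =
      if ((q.out : T) : G)⁻¹ * g ∈ N then b.coeff g else 0 := fun q g => by
    by_cases h : ((q.out : T) : G)⁻¹ * g ∈ N
    · rw [if_pos h]
      exact coeff_cosetPart_of_mem h b
    · rw [if_neg h]
      exact coeff_cosetPart_of_not_mem h b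
  have hsum : b = ∑ q, comp q := by
    ext g
    rw [MonoidAlgebra.coeff_sum, Finsupp.coe_finsetSum, Finset.sum_apply]
    simp only [hcomp_coeff]
    by_cases hg : g ∈ T
    · rw [Finset.sum_eq_single (QuotientGroup.mk ⟨g, hg⟩)]
      · rw [if_pos]
        have := QuotientGroup.eq.1 (QuotientGroup.out_eq'
          (QuotientGroup.mk (⟨g, hg⟩ : T) : ↥T ⧸ N.subgroupOf T))
        rw [Subgroup.mem_subgroupOf] at this
        simpa using this
      · intro q _ hq
        rw [if_neg]
        intro h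
        apply hq
        rw [← QuotientGroup.out_eq' q, QuotientGroup.eq, Subgroup.mem_subgroupOf]
        simpa using h
      · exact fun h => absurd (Finset.mem_univ _) h
    · rw [(mem_ctr.1 hb).1 g hg]
      simp
  have hcompH : ∀ q, comp q ∈ HOM ((q.out : T) : G) ∧ brau D (comp q) = 0 := by
    intro q
    refine ⟨⟨cosetPart_mem_fixedBy hNT (hTN (q.out : T).2) (mem_ctr.1 hb).2,
      cosetPart_inCoset _ _ _, ?_⟩, ?_⟩
    · rw [← cosetPart_mul _ _ (mem_ctr.1 hc.mem).1, hbc]
    · rw [trunc_cosetPart, show trunc _ b = 0 from hbr]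
      ext g
      by_cases h : ((q.out : T) : G)⁻¹ * g ∈ N <;>
        simp [coeff_cosetPart_of_mem, coeff_cosetPart_of_not_mem, h]
  -- the nilpotent ideal
  letI : CommRing ↥(ctr k N) := { (inferInstance : Ring ↥(ctr k N)) with
    mul_comm := fun a b => Subtype.ext (ctr_commute a.2 b.2).eq }
  haveI : IsArtinian k ↥(ctr k N) := inferInstance
  haveI : IsArtinianRing ↥(ctr k N) := isArtinian_of_tower k inferInstance
  obtain ⟨m, hm⟩ := IsArtinianRing.isNilpotent_nilradical (R := ↥(ctr k N))
  let M : ℕ → Submodule k (MonoidAlgebra k G) := fun i =>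
    Submodule.span k {x | ∃ a ∈ (nilradical ↥(ctr k N)) ^ i, ∃ t ∈ T, ∃ y : MonoidAlgebra k G,
      InCoset N t y ∧ x = (a : MonoidAlgebra k G) * y}
  have hM1 : ∀ z ∈ NIL, ∀ t ∈ T, ∀ y, InCoset N t y → z * y ∈ M 1 := fun z hz t ht y hy =>
    Submodule.subset_span ⟨⟨z, hz.1⟩, by
      rw [pow_one, mem_nilradical]
      obtain ⟨n, hn⟩ := hz.2.2
      exact ⟨n, Subtype.ext (by simpa using hn)⟩, t, ht, y, hy, rfl⟩
  -- conjugation preserves the powers of the nilradical
  have hconj : ∀ (i : ℕ) (t : G) (ht : t ∈ T) (a : ↥(ctr k N)), a ∈ (nilradical ↥(ctr k N)) ^ i →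
      (⟨conjA t (a : MonoidAlgebra k G), conjA_mem_ctr (hTN ht) a.2⟩ : ↥(ctr k N)) ∈
        (nilradical ↥(ctr k N)) ^ i := by
    intro i t ht
    let σ : ↥(ctr k N) →+* ↥(ctr k N) :=
      { toFun := fun a => ⟨conjA t (a : MonoidAlgebra k G), conjA_mem_ctr (hTN ht) a.2⟩
        map_one' := Subtype.ext (map_one _)
        map_mul' := fun a b => Subtype.ext (map_mul _ _ _)
        map_zero' := Subtype.ext (map_zero _)
        map_add' := fun a b => Subtype.ext (map_add _ _ _) }
    have h1 : Ideal.map σ (nilradical ↥(ctr k N)) ≤ nilradical ↥(ctr k N) := by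
      rw [Ideal.map_le_iff_le_comap]
      intro a ha
      rw [Ideal.mem_comap, mem_nilradical]
      exact (mem_nilradical.1 ha).map σ
    intro a ha
    have := Ideal.mem_map_of_mem σ ha
    rw [Ideal.map_pow] at this
    exact Ideal.pow_right_mono h1 i this
  have hMmul : ∀ i j, ∀ x ∈ M i, ∀ y ∈ M j, x * y ∈ M (i + j) := by
    intro i j x hx y hy
    induction hx using Submodule.span_induction with
    | zero => rw [zero_mul]; exact zero_mem _
    | add u v _ _ hu hv => rw [add_mul]; exact add_mem hu hv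
    | smul r u _ hu => rw [smul_mul_assoc]; exact Submodule.smul_mem _ r hu
    | mem x hx =>
      induction hy using Submodule.span_induction with
      | zero => rw [mul_zero]; exact zero_mem _
      | add u v _ _ hu hv => rw [mul_add]; exact add_mem hu hv
      | smul r u _ hu => rw [mul_smul_comm]; exact Submodule.smul_mem _ r hu
      | mem y hy =>
        obtain ⟨a, ha, t, ht, u, hu, rfl⟩ := hx
        obtain ⟨a', ha', t', ht', u', hu', rfl⟩ := hy
        refine Submodule.subset_span ⟨a * ⟨conjA t (a' : MonoidAlgebra k G),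
          conjA_mem_ctr (hTN ht) a'.2⟩, ?_, t * t', T.mul_mem ht ht', u * u',
          hu.mul (hTN ht') hu', ?_⟩
        · rw [pow_add]
          exact Ideal.mul_mem_mul ha (hconj j t ht a' ha')
        · rw [Subalgebra.coe_mul, mul_assoc (a : MonoidAlgebra k G), ← mul_assoc u,
            hu.mul_ctr a'.2]
          simp only [mul_assoc]
  -- products of components
  let prodL : List (↥T ⧸ N.subgroupOf T) → MonoidAlgebra k G := fun l =>
    (l.map comp).prod
  let degL : List (↥T ⧸ N.subgroupOf T) → G := fun l =>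
    (l.map fun q => ((q.out : T) : G)).prod
  have hdegT : ∀ l, degL l ∈ T := fun l =>
    list_prod_mem (by simp only [List.mem_map]; rintro _ ⟨q, -, rfl⟩; exact SetLike.coe_mem _)
  have hprod : ∀ l, prodL l ∈ fixedBy k N ∧ InCoset N (degL l) (prodL l) ∧
      (l ≠ [] → prodL l * c = prodL l) := by
    intro l
    induction l with
    | nil => exact ⟨one_mem _, inCoset_one_of_supp (one_mem _), fun h => absurd rfl h⟩
    | cons q l ih =>
      have hP : prodL (q :: l) = comp q * prodL l := by simp [prodL]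
      have hd : degL (q :: l) = ((q.out : T) : G) * degL l := by simp [degL]
      rw [hP, hd]
      refine ⟨mul_mem (hcompH q).1.1 ih.1, (hcompH q).1.2.1.mul (hTN (hdegT l)) ih.2.1, fun _ => ?_⟩
      cases l with
      | nil => simp [prodL, (hcompH q).1.2.2]
      | cons q' l' => rw [mul_assoc, ih.2.2 (List.cons_ne_nil _ _)]
  have hone : ∀ l, l ≠ [] → degL l ∈ N → prodL l ∈ NIL := by
    intro l hl hdeg
    obtain ⟨q, l', rfl⟩ := List.exists_cons_of_ne_nil hl
    have hP : prodL (q :: l') = comp q * prodL l' := by simp [prodL]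
    cases l' with
    | nil =>
      have : prodL [q] = comp q * c := by simp [prodL, (hcompH q).1.2.2]
      rw [this]
      refine hkill _ _ (hcompH q).1 (hcompH q).2 c (mem_ctr.1 hc.mem).2 ?_ hc.mul_self
      rw [← this]
      exact supp_of_inCoset hdeg (hprod [q]).2.1
    | cons q' l'' =>
      rw [hP]
      refine hkill _ _ (hcompH q).1 (hcompH q).2 _ (hprod _).1 ?_
        ((hprod _).2.2 (List.cons_ne_nil _ _))
      rw [← hP]
      exact supp_of_inCoset hdeg (hprod _).2.1
  set n := Fintype.card (↥T ⧸ N.subgroupOf T) with hn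
  have hlong : ∀ l : List (↥T ⧸ N.subgroupOf T), l.length = n → prodL l ∈ M 1 := by
    intro l hl
    let pre : Fin (n + 1) → ↥T ⧸ N.subgroupOf T := fun i =>
      QuotientGroup.mk ⟨degL (l.take i), hdegT _⟩
    obtain ⟨i, j, hij, hne⟩ : ∃ i j, pre i = pre j ∧ i ≠ j := by
      by_contra h
      simp only [not_exists, not_and, not_not] at h
      have := Fintype.card_le_of_injective pre fun a b hab => h a b hab
      simp [← hn] at this
    wlog hlt : i < j generalizing i j
    · exact this j i hij.symm (Ne.symm hne) (lt_of_le_of_ne (not_lt.1 hlt) (Ne.symm hne))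
    set mid := (l.take j).drop i with hmid
    have hsplit : l.take j = l.take i ++ mid := by
      rw [hmid]
      conv_lhs => rw [← List.take_append_drop (i : ℕ) (l.take j)]
      rw [List.take_take, Nat.min_eq_left (le_of_lt hlt)]
    have hdeg : degL mid ∈ N := by
      have h := QuotientGroup.eq.1 hij
      rw [Subgroup.mem_subgroupOf] at h
      simpa [hsplit, degL] using h
    have hmne : mid ≠ [] := by
      intro h0
      have := congrArg List.length h0
      simp only [hmid, List.length_drop, List.length_take, List.length_nil] at this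
      omega
    have hl' : l = l.take i ++ mid ++ l.drop j := by
      rw [← hsplit, List.take_append_drop]
    have hmem := hone mid hmne hdeg
    have : prodL l = prodL (l.take i) * prodL mid * prodL (l.drop j) := by
      conv_lhs => rw [hl']
      simp [prodL, mul_assoc]
    rw [this, (hprod (l.take i)).2.1.mul_ctr hmem.1, mul_assoc]
    refine hM1 _ ⟨conjA_mem_ctr (hTN (hdegT _)) hmem.1, ?_, hmem.2.2.map _⟩ _
      (T.mul_mem (hdegT _) (hdegT _)) _ ((hprod _).2.1.mul (hTN (hdegT _)) (hprod _).2.1)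
    conv_rhs => rw [← hmem.2.1]
    rw [map_mul, hcT _ (hdegT _)]
  have hexp : ∀ i : ℕ, b ^ i ∈ Submodule.span k
      {x | ∃ l : List (↥T ⧸ N.subgroupOf T), l.length = i ∧ x = prodL l} := by
    intro i
    induction i with
    | zero => exact Submodule.subset_span ⟨[], rfl, by simp [prodL]⟩
    | succ i ih =>
      rw [pow_succ', hsum, Finset.sum_mul, ← hsum]
      refine sum_mem fun q _ => ?_
      have h2 := Submodule.mem_map_of_mem (f := LinearMap.mulLeft k (comp q)) ih
      rw [Submodule.map_span] at h2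
      refine Submodule.span_mono ?_ h2
      rintro _ ⟨x, ⟨l, hl, rfl⟩, rfl⟩
      exact ⟨q :: l, by simp [hl], by simp [prodL]⟩
  have hpow : ∀ i : ℕ, i ≠ 0 → b ^ i = b := by
    intro i hi
    obtain ⟨i, rfl⟩ := Nat.exists_eq_succ_of_ne_zero hi
    induction i with
    | zero => simp
    | succ i ih => rw [pow_succ, ih (Nat.succ_ne_zero _), hbb]
  have hb1 : b ∈ M 1 := by
    have hn0 : n ≠ 0 := Fintype.card_ne_zero
    rw [← hpow n hn0]
    refine Submodule.span_le.2 ?_ (hexp n)
    rintro _ ⟨l, hl, rfl⟩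
    exact hlong l hl
  have hball : ∀ i, b ∈ M (i + 1) := by
    intro i
    induction i with
    | zero => exact hb1
    | succ i ih =>
      rw [← hbb]
      exact hMmul _ _ _ ih _ hb1
  apply hb0
  have hbot : M (m + 1) = ⊥ := by
    rw [Submodule.span_eq_bot]
    rintro _ ⟨a, ha, t, -, y, -, rfl⟩
    rw [pow_succ, hm, zero_mul, Ideal.zero_eq_bot, Ideal.mem_bot] at ha
    rw [ha]
    simp
  simpa [hbot] using hball m

/-- A block of `K` covers a block of the normal subgroup `N` with defect group the intersection. -/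
theorem exists_covered {K N P : Subgroup G} (hNK : N ≤ K)
    (hKN : K ≤ Subgroup.normalizer (N : Set G)) {b : MonoidAlgebra k G} (hb : IsBlockIdem K b)
    (hP : IsDefectIn p K K b P) :
    ∃ c, IsBlockIdem N c ∧ b * c ≠ 0 ∧ c ∈ fixedBy k P ∧
      IsDefectIn p N N c (P ⊓ N) ∧
      IsBlockIdem (K ⊓ stabA c) (b * c) ∧ IsDefectIn p (K ⊓ stabA c) (K ⊓ stabA c) (b * c) P := by
  classical
  have hPN : P ≤ Subgroup.normalizer (N : Set G) := hP.1.trans hKN
  have hbP : b ∈ fixedBy k P := hb.fixed_of_le hP.1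
  obtain ⟨c, hc, hcP, hbrc⟩ : ∃ c, IsBlockIdem N c ∧ c ∈ fixedBy k P ∧ brau P (b * c) ≠ 0 := by
    let S := {f : MonoidAlgebra k G // f ∈ blockIdems k N}
    letI : SMul P S := ⟨fun u f => ⟨conjA (u : G) f.1,
      mem_blockIdems.2 ((mem_blockIdems.1 f.2).conj (hPN u.2))⟩⟩
    letI : MulAction P S :=
      { one_smul := fun f => Subtype.ext (conjA_one _)
        mul_smul := fun u v f => Subtype.ext (conjA_mul (u : G) (v : G) _) }
    have hinv : ∀ (u : P) (f : S), brau P (b * (u • f : S).1) = brau P (b * f.1) := by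
      intro u f
      change brau P (b * conjA (u : G) f.1) = _
      conv_lhs => rw [← hbP (u : G) u.2, ← map_mul]
      rw [← conjA_trunc (normalizer_le_normalizer_cen P (Subgroup.le_normalizer u.2)),
        fixedBy_self_of_supp_cen (trunc_mem_supp _ _) (u : G) u.2]
    have hsum : ∑ f : S, brau P (b * f.1) = brau P b := by
      rw [← map_sum, ← Finset.mul_sum, Finset.sum_coe_sort (blockIdems k N) (fun x => x),
        sum_blockIdems, mul_one]
    rw [sum_eq_sum_fixedPoints (R := k) hP.2.1 _ hinv] at hsum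
    obtain ⟨f, hf, hne⟩ := Finset.exists_ne_zero_of_sum_ne_zero
      (s := Finset.univ.filter (· ∈ MulAction.fixedPoints P S))
      (f := fun f : S => brau P (b * f.1)) (by rw [hsum]; exact hP.2.2.1)
    exact ⟨f.1, mem_blockIdems.1 f.2,
      fun u hu => congrArg Subtype.val ((Finset.mem_filter.1 hf).2 ⟨u, hu⟩), hne⟩
  have hbc0 : b * c ≠ 0 := fun h => hbrc (by rw [h, map_zero])
  set T := K ⊓ stabA c with hT
  have hNT : N ≤ T := le_inf hNK (le_stabA_iff.2 (mem_ctr.1 hc.mem).2)
  have hTN : T ≤ Subgroup.normalizer (N : Set G) := inf_le_left.trans hKN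
  have hcT : c ∈ fixedBy k T := fun x hx => (Subgroup.mem_inf.1 hx).2
  have hcK : c ∈ supp k K := supp_mono hNK (mem_ctr.1 hc.mem).1
  have hcomm : Commute b c := commute_of_fixedBy_of_supp (mem_ctr.1 hb.mem).2 hcK
  have hbfix : b * c ∈ fixedBy k T := mul_mem (hb.fixed_of_le inf_le_left) hcT
  have hbcT : b * c ∈ ctr k T := by
    refine mem_ctr.2 ⟨fun g hg => ?_, hbfix⟩
    by_cases hgK : g ∈ K
    swap
    · exact (mul_mem (mem_ctr.1 hb.mem).1 hcK : b * c ∈ supp k K) g hgK
    set y := cosetPart N g b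
    have hy : y ∈ fixedBy k N := cosetPart_mem_fixedBy hNK (hKN hgK) (mem_ctr.1 hb.mem).2
    have hyc : Commute y c := commute_of_fixedBy_of_supp hy (mem_ctr.1 hc.mem).1
    have hne : conjA g c ≠ c := fun h => hg (Subgroup.mem_inf.2 ⟨hgK, h⟩)
    have h0 : y * c = 0 := by
      calc y * c = y * c * c := by rw [mul_assoc, hc.mul_self]
        _ = conjA g c * (y * c) := by
          conv_lhs => rw [(cosetPart_inCoset N g b).mul_ctr hc.mem]
          rw [mul_assoc]
        _ = 0 := by
          rw [hyc.eq, ← mul_assoc, (hc.conj (hKN hgK)).mul_eq_zero_of_ne hc hne, zero_mul]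
    rw [← coeff_cosetPart_of_mem (N := N) (t := g) (by simp) (b * c),
      cosetPart_mul _ _ (mem_ctr.1 hc.mem).1, h0]
    simp
  have hcc : c * c = c := hc.mul_self
  have hbcbc : b * c * (b * c) = b * c := by
    rw [mul_assoc b c (b * c), ← mul_assoc c b c, ← hcomm.eq, mul_assoc b c c, hcc, ← mul_assoc,
      hb.mul_self]
  have hblock : IsBlockIdem T (b * c) := by
    refine ⟨hbcT, hbcbc, hbc0, fun f hf hff => ?_⟩
    set f' := b * c * f with hf'
    have hf'm : f' ∈ ctr k T := mul_mem hbcT hf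
    have hf'f' : f' * f' = f' := mul_idem hbcT hf hbcbc hff
    have hcf : c * f' = f' := by
      rw [hf', ← mul_assoc, ← mul_assoc, ← hcomm.eq, mul_assoc b c c, hcc]
    set F := relTr T K f' with hF
    have hFm : F ∈ ctr k K := mem_ctr.2 ⟨relTr_mem_supp Subgroup.le_normalizer
      (supp_mono inf_le_left (mem_ctr.1 hf'm).1), relTr_mem_fixedBy _ _ (mem_ctr.1 hf'm).2⟩
    have hFc : F * c = f' := by
      haveI := Fintype.ofFinite (↥K ⧸ T.subgroupOf K)
      rw [hF, relTr_apply, Finset.sum_mul, Finset.sum_eq_single (QuotientGroup.mk (1 : K))]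
      · rw [conjA_out (mem_ctr.1 hf'm).2, Subgroup.coe_one, conjA_one,
          (commute_of_fixedBy_of_supp (fixedBy_anti hNT (mem_ctr.1 hf'm).2)
            (mem_ctr.1 hc.mem).1).eq, hcf]
      · intro q _ hq
        have hqK := (q.out : K).2
        have hne : conjA ((q.out : K) : G) c ≠ c := by
          intro h
          apply hq
          rw [← QuotientGroup.out_eq' q, QuotientGroup.eq, Subgroup.mem_subgroupOf]
          simpa using T.inv_mem (Subgroup.mem_inf.2 ⟨hqK, h⟩)
        have hcomm2 : Commute f' c := commute_of_fixedBy_of_supp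
          (fixedBy_anti hNT (mem_ctr.1 hf'm).2) (mem_ctr.1 hc.mem).1
        rw [← hcf, ← hcomm2.eq, map_mul, mul_assoc,
          (hc.conj (hKN hqK)).mul_eq_zero_of_ne hc hne, mul_zero]
      · exact fun h => absurd (Finset.mem_univ _) h
    have hFF : F * F = F := by
      conv_lhs => arg 2; rw [hF]
      rw [mul_relTr _ _ (mem_ctr.1 hFm).2]
      have : F * f' = f' := by
        rw [← hcf, ← mul_assoc, hFc, hf'f', hcf]
      rw [this]
    have hbF : b * F = F := by
      rw [hF, mul_relTr _ _ (mem_ctr.1 hb.mem).2, hf', ← mul_assoc, ← mul_assoc, hb.mul_self]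
    rcases hb.2.2.2 F hFm hFF with h0 | h1
    · left
      change f' = 0
      rw [← hFc, ← hbF, h0, zero_mul]
    · right
      change f' = b * c
      rw [← hFc, ← hbF, h1]
  have hPT : P ≤ T := le_inf hP.1 (le_stabA_iff.2 hcP)
  have hbP' : brau P (b * c) ≠ 0 := hbrc
  obtain ⟨D', hD'⟩ := exists_isDefectIn (p := p) (le_refl T) Subgroup.le_normalizer hblock
    (mem_ctr.1 hblock.mem).2
  have hcD' : c ∈ fixedBy k D' := fixedBy_anti hD'.1 hcT
  have hbD' : brau D' b ≠ 0 := fun h => hD'.2.2.1 (by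
    rw [trunc_centralizer_mul hD'.2.1 (hb.fixed_of_le (hD'.1.trans inf_le_left)) hcD', h,
      zero_mul])
  obtain ⟨x, -, hx⟩ := hP.exists_conj_le hD'.2.1 (hD'.1.trans inf_le_left) hbD'
  obtain ⟨t, ht, hxt⟩ := hD'.exists_conj_le hP.2.1 hPT hbP'
  have hcard1 : Nat.card D' ≤ Nat.card P := by
    have := Subgroup.card_le_of_le (map_conj_inv_le hx)
    rwa [Subgroup.card_map_of_injective (MulAut.conj x).injective] at this
  have hPeq : P = cj t D' := Subgroup.eq_of_le_of_card_ge (map_conj_inv_le hxt)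
    (by rwa [Subgroup.card_map_of_injective (MulAut.conj t).injective])
  have hPdef : IsDefectIn p T T (b * c) P := by
    have := hD'.conj_cj t
    rwa [cj_of_mem ht, (mem_ctr.1 hblock.mem).2 t ht, ← hPeq] at this
  have hbcc : b * c * c = b * c := by rw [mul_assoc, hcc]
  obtain ⟨Dc, hDc⟩ := exists_isDefectIn (p := p) (le_refl N) Subgroup.le_normalizer hc
    (mem_ctr.1 hc.mem).2
  have hDcne := brau_ne_zero_of_covers hNT hTN hc hcT hDc hbcT hbcbc hbc0 hbcc
  obtain ⟨s, hs, hsD⟩ := hPdef.exists_conj_le hDc.2.1 (hDc.1.trans hNT) hDcne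
  have hRne : brau (P ⊓ N) c ≠ 0 := by
    intro h
    apply hbrc
    rw [trunc_centralizer_mul hP.2.1 hbP hcP,
      ← brau_brau_of_le (inf_le_left : P ⊓ N ≤ P) c, h, map_zero, mul_zero]
  obtain ⟨n, hn, hnR⟩ := hDc.exists_conj_le (hP.2.1.to_le inf_le_left) inf_le_right hRne
  have hcard2 : Nat.card Dc ≤ Nat.card ↥(P ⊓ N) := by
    have h1 : cj s⁻¹ Dc ≤ P ⊓ N := by
      intro u hu
      rw [mem_cj, inv_inv] at hu
      have h2 := hsD _ hu
      have h3 : s⁻¹ * (s * u * s⁻¹) * s ∈ N :=
        (Subgroup.mem_normalizer_iff''.1 (hTN hs) _).1 (hDc.1 hu)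
      simp only [mul_assoc, inv_mul_cancel_left, inv_mul_cancel, mul_one] at h2 h3
      exact Subgroup.mem_inf.2 ⟨h2, h3⟩
    have := Subgroup.card_le_of_le h1
    rwa [Subgroup.card_map_of_injective (MulAut.conj s⁻¹).injective] at this
  have hReq : P ⊓ N = cj n Dc := Subgroup.eq_of_le_of_card_ge (map_conj_inv_le hnR)
    (by rwa [Subgroup.card_map_of_injective (MulAut.conj n).injective])
  refine ⟨c, hc, hbc0, hcP, ?_, hblock, hPdef⟩
  have := hDc.conj_cj n
  rwa [cj_of_mem hn, (mem_ctr.1 hc.mem).2 n hn, ← hReq] at this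

end CfsgLib.BrauerPairs
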