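import Cfsg.Agent.Lib.BrauerPairs.SectMajor
import Cfsg.Agent.Lib.BrauerPairs.AbelianDefect
import Cfsg.Agent.Lib.Blocks.Defect

/-!
A nilpotent block with abelian defect group has regular rank one, as many characters as the order
of its defect group, and all of height zero.
-/

set_option autoImplicit false

universe u

namespace CfsgLib.BrauerPairs

open Cfsg CfsgLib.BrauerCharacters Finset

variable {p : ℕ} [hp : Fact p.Prime] {M : Ideal AlgInt} [hMp : M.IsPrime]

theorem blockRank_eq_one_aux [M.IsMaximal] [CharP (Blocks.Res M) p]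
    [IsAlgClosed (Blocks.Res M)] (hM : IsPModular p M) :
    ∀ (n : ℕ) (G : Type u) [Group G] [Fintype G] (B : Set (IrrCharacter G)),
      IsNilpotentBlock p M B → ∀ P : Subgroup G, IsDefectGroup p M B P →
      (∀ x ∈ P, ∀ y ∈ P, x * y = y * x) →
      Nat.card P - Nat.card (P ⊓ Subgroup.center G : Subgroup G) = n →
      blockRank p B = 1 ∧ Nat.card B = Nat.card P ∧
        ∀ χ ∈ B, blockHeight p B (χ : G → ℂ) = 0 := by
  intro n
  induction n using Nat.strong_induction_on with
  | _ n ih =>
  intro G _ _ B hnil P hPD hab hn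
  classical
  obtain ⟨hB, hnil'⟩ := (isNilpotentBlock_iff hM).1 hnil
  have hb := isBlockIdem_redElem_blockCoeff (M := M) hB
  obtain ⟨ε, hmax⟩ := exists_isMaxPair_of_isDefectIn hb ((isDefectGroup_iff hM hB).1 hPD)
  have hP : IsPGroup p P := hmax.1.1.1
  set D := blockDefect p B with hDdef
  have hPcard : Nat.card P = p ^ D := Blocks.card_isDefectGroup hM hB hPD
  have hpel : ∀ y ∈ P, ∃ k : ℕ, orderOf y = p ^ k := by
    intro y hy
    obtain ⟨k, hk⟩ := IsPGroup.iff_orderOf.1 hP ⟨y, hy⟩
    exact ⟨k, by rwa [Subgroup.orderOf_mk] at hk⟩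
  have hPC : P ≤ Subgroup.centralizer (P : Set G) := fun u hu =>
    Subgroup.mem_centralizer_iff.2 fun v hv => hab v hv u hu
  -- the subsections
  have hsub : ∀ y : G, ∃ by' : Set (IrrCharacter (Subgroup.centralizer ({y} : Set G))),
      y ∈ P → IsPBlock M by' ∧
        PairLE p (⊤ : Subgroup G) (Subgroup.zpowers y) (subIdem M _ by') P ε := by
    intro y
    by_cases hy : y ∈ P
    · obtain ⟨φ, hφ, -⟩ := existsUnique_pairLE hmax.1.1 (Subgroup.zpowers_le.2 hy)
      have h2 := (hφ.isPair_left hmax.1.1).2.2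
      rw [cenIn_top, centralizer_zpowers_eq] at h2
      obtain ⟨f, hf, rfl⟩ := exists_isPBlock_subIdem h2
      exact ⟨f, fun _ => ⟨hf, hφ⟩⟩
    · exact ⟨Set.univ, fun h => absurd h hy⟩
  choose b hb' using hsub
  haveI : ∀ y : G, Fintype (Subgroup.centralizer ({y} : Set G)) := fun y => Fintype.ofFinite _
  set Z : Finset G := univ.filter fun y => y ∈ P ∧ y ∈ Subgroup.center G with hZdef
  set S : Finset G := univ.filter fun y => y ∈ P ∧ y ∉ Subgroup.center G with hSdef
  have hZS : Z.card + S.card = p ^ D := by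
    rw [← hPcard, Nat.card_eq_fintype_card, Fintype.card_subtype, ← card_union_of_disjoint]
    · congr 1
      ext y
      simp only [hZdef, hSdef, mem_union, mem_filter, mem_univ, true_and]
      tauto
    · exact disjoint_left.2 fun y h1 h2 => (mem_filter.1 h2).2.2 (mem_filter.1 h1).2.2
  have hZpos : 0 < Z.card := card_pos.2 ⟨1, mem_filter.2 ⟨mem_univ _, P.one_mem, one_mem _⟩⟩
  -- the local blocks
  have hloc : ∀ y ∈ S, IsInducedBlock M (Subgroup.centralizer ({y} : Set G)) (b y) B ∧
      blockDefect p (b y) = D ∧ blockRank p (b y) = 1 := by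
    intro y hy
    obtain ⟨hyP, hyc⟩ := (mem_filter.1 hy).2
    obtain ⟨hbl, hle⟩ := hb' y hyP
    set C := Subgroup.centralizer ({y} : Set G) with hC
    have hCz : Subgroup.centralizer (Subgroup.zpowers y : Set G) = C := centralizer_zpowers_eq y
    have hind : IsInducedBlock M C (b y) B := by
      refine (isInducedBlock_iff hM (hP.to_le hle.le) ?_
        (hCz ▸ Subgroup.centralizer_le_normalizer _) hCz.le hbl hB).2
        ((hle.pairOf_iff hb).2 hmax.1).2
      exact Subgroup.zpowers_le.2 (Subgroup.mem_centralizer_singleton_iff.2 rfl)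
    have hPz : P ≤ Subgroup.normalizer (Subgroup.zpowers y : Set G) :=
      (hPC.trans (Subgroup.centralizer_le hle.le)).trans (Subgroup.centralizer_le_normalizer _)
    obtain ⟨g, hn', hge⟩ := hle.normalLE_of_le_normalizer hmax.1.1 hle.le le_rfl hPz
    have : g = ε := (existsUnique_pairLE hmax.1.1 le_rfl).unique hge (PairLE.refl _ _ _ _)
    subst this
    have hm := hmax.local_of_abelian hb hab hn'
    rw [cenIn_top, hCz] at hm
    have hblock := isBlockIdem_subIdem (M := M) hbl
    have hPleC : P ≤ C := hm.1.1.2.1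
    have hPmap : (P.subgroupOf C).map C.subtype = P := by
      rw [Subgroup.subgroupOf_map_subtype, inf_eq_left.2 hPleC]
    have hdef : IsDefectGroup p M (b y) (P.subgroupOf C) := by
      rw [isDefectGroup_sub_iff hM hbl, hPmap]
      exact hm.isDefectIn hblock
    have hnily : IsNilpotentBlock p M (b y) := by
      refine (isNilpotentBlock_sub_iff hM).2 ⟨hbl, (hm.isNilp_iff_of_abelian hblock hab).2 ?_⟩
      intro x hx
      obtain ⟨-, hxN, hxe⟩ := mem_pairStab.1 hx
      exact (hmax.isNilp_iff_of_abelian hb hab).1 hnil' x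
        (mem_pairStab.2 ⟨Subgroup.mem_top x, hxN, hxe⟩)
    have hcardP : Nat.card (P.subgroupOf C) = Nat.card P :=
      Nat.card_congr (Subgroup.subgroupOfEquivOfLe hPleC).toEquiv
    have hlt : Nat.card (P.subgroupOf C) -
        Nat.card (P.subgroupOf C ⊓ Subgroup.center C : Subgroup C) < n := by
      have h1 : Nat.card (P ⊓ Subgroup.center G : Subgroup G) <
          Nat.card (P.subgroupOf C ⊓ Subgroup.center C : Subgroup C) := by
        rw [← Subgroup.card_map_of_injective (f := C.subtype)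
          (K := (P.subgroupOf C ⊓ Subgroup.center C : Subgroup C)) C.subtype_injective]
        refine lt_of_le_of_ne (Subgroup.card_le_of_le ?_) fun h => hyc ?_
        · intro z hz
          obtain ⟨hzP, hzc⟩ := Subgroup.mem_inf.1 hz
          refine ⟨⟨z, hPleC hzP⟩, Subgroup.mem_inf.2 ⟨hzP, Subgroup.mem_center_iff.2 fun c => ?_⟩, rfl⟩
          exact Subtype.ext (Subgroup.mem_center_iff.1 hzc c)
        · have hle' : P ⊓ Subgroup.center G ≤
              (P.subgroupOf C ⊓ Subgroup.center C : Subgroup C).map C.subtype := by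
            intro z hz
            obtain ⟨hzP, hzc⟩ := Subgroup.mem_inf.1 hz
            exact ⟨⟨z, hPleC hzP⟩, Subgroup.mem_inf.2 ⟨hzP, Subgroup.mem_center_iff.2 fun c =>
              Subtype.ext (Subgroup.mem_center_iff.1 hzc c)⟩, rfl⟩
          have heq := Subgroup.eq_of_le_of_card_ge hle' h.ge
          have hyy : y ∈ (P.subgroupOf C ⊓ Subgroup.center C : Subgroup C).map C.subtype :=
            ⟨⟨y, hPleC hyP⟩, Subgroup.mem_inf.2 ⟨hyP, Subgroup.mem_center_iff.2 fun c =>
              Subtype.ext (Subgroup.mem_centralizer_singleton_iff.1 c.2)⟩, rfl⟩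
          rw [← heq] at hyy
          exact (Subgroup.mem_inf.1 hyy).2
      have h2 := Subgroup.card_le_of_le (inf_le_left : P ⊓ Subgroup.center G ≤ P)
      have h3 := Subgroup.card_le_of_le
        (inf_le_left : P.subgroupOf C ⊓ Subgroup.center C ≤ P.subgroupOf C)
      omega
    refine ⟨hind, ?_, (ih _ hlt C (b y) hnily (P.subgroupOf C) hdef (fun x hx z hz =>
      Subtype.ext (hab x hx z hz)) rfl).1⟩
    have h1 := Blocks.card_isDefectGroup hM hbl hdef
    rw [hcardP, hPcard] at h1
    exact (Nat.pow_right_injective hp.out.two_le h1).symm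
  have hinj : ∀ y ∈ S, ∀ y' ∈ S, ∀ x : G, x * y * x⁻¹ = y' →
      conjA x (subIdem M _ (b y)) = subIdem M _ (b y') → y = y' := by
    intro y hy y' hy' x hxy hxb
    have hle := (hb' y (mem_filter.1 hy).2.1).2
    have hle' := (hb' y' (mem_filter.1 hy').2.1).2
    have hz : cj x (Subgroup.zpowers y) = Subgroup.zpowers y' := by
      rw [← hxy, cj, MonoidHom.map_zpowers]
      rfl
    obtain ⟨u, hu, z, hz', rfl⟩ := hnil'.exists_eq_mul hb hmax hle (Subgroup.mem_top x)
      (by rw [hz, hxb]; exact hle')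
    have hzy : z * y = y * z :=
      (Subgroup.mem_centralizer_iff.1 (Subgroup.mem_inf.1 hz').2 y (Subgroup.mem_zpowers y)).symm
    rw [← hxy, mul_assoc u, hzy, mul_inv_rev]
    have huy := hab u hu y (mem_filter.1 hy).2.1
    calc y = u * y * u⁻¹ := by rw [huy, mul_inv_cancel_right]
      _ = _ := by group
  have hclosed : ∀ y ∈ S, ∀ t : ℕ, t.Coprime (Nat.card G) →
      y ^ t ∈ S ∧ subIdem M _ (b (y ^ t)) = subIdem M _ (b y) := by
    intro y hy t ht
    obtain ⟨hyP, hyc⟩ := (mem_filter.1 hy).2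
    obtain ⟨v, hv⟩ := exists_pow_eq_self_of_coprime
      (Nat.Coprime.coprime_dvd_right (orderOf_dvd_natCard y) ht)
    have hz : Subgroup.zpowers (y ^ t) = Subgroup.zpowers y := by
      refine le_antisymm (Subgroup.zpowers_le.2 (Subgroup.npow_mem_zpowers y t))
        (Subgroup.zpowers_le.2 ?_)
      have h := Subgroup.npow_mem_zpowers (y ^ t) v
      rwa [hv] at h
    refine ⟨mem_filter.2 ⟨mem_univ _, P.pow_mem hyP t, fun hc => hyc ?_⟩, ?_⟩
    · rw [← hv]; exact pow_mem hc v
    · have h1 := (hb' (y ^ t) (P.pow_mem hyP t)).2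
      rw [hz] at h1
      exact (existsUnique_pairLE hmax.1.1 (Subgroup.zpowers_le.2 hyP)).unique h1 (hb' y hyP).2
  have hw := weakOrth (p := p) hM hB
  -- every diagonal entry is one
  have hdiag : ∀ χ ∈ B, regEntry p B χ χ = 1 := by
    intro χ hχ
    have h1 := regInner_add_sum_subNorm_le hM χ Z S
      (fun z hz => ⟨(mem_filter.1 hz).2.2, hpel z (mem_filter.1 hz).2.1⟩)
      (fun y hy => ⟨(mem_filter.1 hy).2.2, hpel y (mem_filter.1 hy).2.1⟩) b
      (fun y hy => (hb' y (mem_filter.1 hy).2.1).1) hinj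
    have h2 := card_le_pow_mul_sum_subNorm hM χ S b D
      (fun y hy => ⟨(hb' y (mem_filter.1 hy).2.1).1, (hloc y hy).2.1⟩) hclosed
      (fun y hy => subNorm_ne_zero hM rfl (hpel y (mem_filter.1 hy).2.1) rfl (hloc y hy).1
        ((hloc y hy).2.1.trans hDdef) hχ)
    have h3 := congrArg Complex.re (coe_regEntry (p := p) hχ χ)
    rw [Complex.intCast_re, ← Nat.cast_pow, ← Complex.ofReal_natCast, Complex.re_ofReal_mul,
      Nat.cast_pow] at h3
    have hp0 : (0 : ℝ) ≤ (p : ℝ) ^ D := pow_nonneg (Nat.cast_nonneg p) _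
    have h4 : (Z.card : ℝ) * (regEntry p B χ χ : ℝ) ≤ Z.card := by
      have h5 := mul_le_mul_of_nonneg_left h1 hp0
      have h6 : ((Z.card : ℝ) + S.card) = (p : ℝ) ^ D := by exact_mod_cast hZS
      rw [h3]
      nlinarith
    have h5 : (regEntry p B χ χ : ℝ) ≤ 1 :=
      le_of_mul_le_mul_left (by linarith) (Nat.cast_pos.2 hZpos : (0 : ℝ) < Z.card)
    have h6 : regEntry p B χ χ ≤ 1 := by exact_mod_cast h5
    have h7 := regEntry_self_pos hw hM hB hχ
    omega
  have hheight : ∀ χ ∈ B, blockHeight p B (χ : G → ℂ) = 0 := by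
    intro χ hχ
    by_contra h
    have h1 := (dvd_pow_self (p : ℤ) h).trans (pow_height_dvd (p := p) hχ χ)
    rw [hdiag χ hχ] at h1
    exact hp.out.one_lt.ne' (Nat.dvd_one.1 (by exact_mod_cast h1))
  obtain ⟨j, hj, hj0⟩ := exists_height_eq_zero (p := p) (B := B) (Blocks.isPBlock_nonempty hB)
  have hk : Nat.card B ≤ p ^ D := by
    have h1 : ((blockFinset B).card : ℤ) ≤ ∑ ψ ∈ blockFinset B, regEntry p B j ψ ^ 2 := by
      rw [card_eq_sum_ones]
      push_cast
      refine sum_le_sum fun ψ hψ => ?_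
      have hne : regEntry p B j ψ ≠ 0 := by
        rw [regEntry_comm]
        exact regEntry_ne_zero hw hM hB (mem_blockFinset.1 hψ) hj hj0
      rcases lt_or_gt_of_ne hne with h | h <;> nlinarith
    rw [sum_regEntry_sq hw hj, hdiag j hj, mul_one, card_blockFinset] at h1
    exact_mod_cast h1
  have htr : (Nat.card B : ℂ) = ((p ^ D * blockRank p B : ℕ) : ℂ) := by
    rw [Nat.cast_mul, ← sum_regInner_self_eq_blockRank hw, Nat.cast_pow, mul_sum,
      sum_congr rfl fun χ hχ => by
        rw [← coe_regEntry (mem_blockFinset.1 hχ), hdiag χ (mem_blockFinset.1 hχ), Int.cast_one],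
      sum_const, card_blockFinset, nsmul_eq_mul, mul_one]
  have htr' : Nat.card B = p ^ D * blockRank p B := by exact_mod_cast htr
  have hpos := blockRank_pos (p := p) (Blocks.isPBlock_nonempty hB)
  have hle1 : p ^ D * blockRank p B ≤ p ^ D * 1 := by rw [mul_one, ← htr']; exact hk
  have hl := Nat.le_of_mul_le_mul_left hle1 (pow_pos hp.out.pos D)
  have hl1 : blockRank p B = 1 := by omega
  exact ⟨hl1, by rw [htr', hl1, mul_one, hPcard], hheight⟩

/-- A nilpotent block with abelian defect group has regular rank one, `|P|` characters, all of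
height zero. -/
theorem blockRank_eq_one_of_nilpotent_abelian {G : Type u} [Group G] [Finite G]
    (hM : IsPModular p M) {B : Set (IrrCharacter G)} (hnil : IsNilpotentBlock p M B)
    {P : Subgroup G} (hP : IsDefectGroup p M B P) (hab : ∀ x ∈ P, ∀ y ∈ P, x * y = y * x) :
    blockRank p B = 1 ∧ Nat.card B = Nat.card P ∧
      ∀ χ ∈ B, blockHeight p B (χ : G → ℂ) = 0 := by
  haveI : M.IsMaximal := hM.2.1
  haveI : CharP (Blocks.Res M) p := Blocks.charP_res hM
  haveI : IsAlgClosed (Blocks.Res M) := Blocks.isAlgClosed_res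
  haveI := Fintype.ofFinite G
  exact blockRank_eq_one_aux hM _ G B hnil P hP hab rfl

end CfsgLib.BrauerPairs
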