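import Cfsg.Agent.Lib.BrauerPairs.BridgeFusion
import Cfsg.Agent.Lib.BrauerPairs.TransportPairs
import Cfsg.Agent.Lib.BrauerPairs.Covering
import Cfsg.Agent.Lib.Blocks.Orth

/-!
# Normal subgroups of `p`-power index
-/

noncomputable section

namespace CfsgLib.BrauerPairs

open MonoidAlgebra Cfsg

section General

variable {G : Type*} [Group G]

/-- An element of order prime to `p` with a power `x ^ p ^ a` in `N` lies in `N`. -/
theorem mem_of_pow_mem {p : ℕ} (hp : p.Prime) {N : Subgroup G} {x : G} {a : ℕ}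
    (hx : ¬ p ∣ orderOf x) (h : x ^ p ^ a ∈ N) : x ∈ N := by
  have hcop : (orderOf x).Coprime (p ^ a) := ((hp.coprime_iff_not_dvd.2 hx).symm).pow_right _
  have h2 : x ∈ Subgroup.zpowers (x ^ p ^ a) := mem_zpowers_pow_iff.2 hcop.symm
  exact (Subgroup.zpowers_le.2 h) h2

theorem mem_of_relIndex_eq_pow {p k : ℕ} (hp : p.Prime) {N K : Subgroup G}
    (hKN : K ≤ Subgroup.normalizer (N : Set G)) (hidx : N.relIndex K = p ^ k) {x : G} (hx : x ∈ K)
    (hreg : ¬ p ∣ orderOf x) : x ∈ N := by
  haveI := Subgroup.normal_subgroupOf_of_le_normalizer hKN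
  have h := Subgroup.pow_index_mem (N.subgroupOf K) ⟨x, hx⟩
  rw [Subgroup.mem_subgroupOf, Subgroup.coe_pow, ← Subgroup.relIndex, hidx] at h
  exact mem_of_pow_mem hp hreg h

end General

variable {G : Type*} [Group G] [Finite G] {p : ℕ} {M : Ideal AlgInt} [hMp : M.IsPrime]

/-- Idempotents of the centre of `k[K]` live on a subgroup containing the `p`-regular elements. -/
theorem mem_supp_of_regular (hM : IsPModular p M) {N K : Subgroup G}
    (hreg : ∀ x ∈ K, ¬ p ∣ orderOf x → x ∈ N) {f : MonoidAlgebra (Blocks.Res M) G}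
    (hf : f ∈ ctr (Blocks.Res M) K) (hff : f * f = f) : f ∈ supp (Blocks.Res M) N := by
  have hblock : ∀ d, IsBlockIdem K d → d ∈ supp (Blocks.Res M) N := by
    intro d hd
    obtain ⟨d, hd', rfl⟩ := exists_isPBlock_subIdem hd
    haveI := Fintype.ofFinite K
    intro g hg
    rw [coeff_redElem, subgroupBlockCoeff]
    by_cases hgK : g ∈ K
    · rw [dif_pos hgK, Blocks.blockCoeff_eq_zero_of_dvd_orderOf hM hd' ?_, redC_zero]
      rw [← Subgroup.orderOf_coe]
      by_contra hc
      exact hg (hreg g hgK hc)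
    · rw [dif_neg hgK, redC_zero]
  rw [← mul_one f, ← sum_blockIdems (k := Blocks.Res M) K, Finset.mul_sum]
  refine sum_mem fun d hd => ?_
  have hd' := mem_blockIdems.1 hd
  rw [(ctr_commute hf hd'.mem).eq]
  rcases hd'.2.2.2 f hf hff with h | h
  · rw [h]; exact zero_mem _
  · rw [h]; exact hblock d hd'

/-- A stable block of a normal subgroup containing the `p`-regular elements is a block of the
whole group. -/
theorem isBlockIdem_of_regular (hM : IsPModular p M) {N K : Subgroup G} (hNK : N ≤ K)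
    (hreg : ∀ x ∈ K, ¬ p ∣ orderOf x → x ∈ N) {c : MonoidAlgebra (Blocks.Res M) G}
    (hc : IsBlockIdem N c) (hcK : c ∈ fixedBy (Blocks.Res M) K) : IsBlockIdem K c := by
  refine ⟨mem_ctr.2 ⟨supp_mono hNK (mem_ctr.1 hc.mem).1, hcK⟩, hc.mul_self, hc.ne_zero,
    fun f hf hff => ?_⟩
  exact hc.2.2.2 f (mem_ctr.2 ⟨mem_supp_of_regular hM hreg hf hff,
    fixedBy_anti hNK (mem_ctr.1 hf).2⟩) hff

theorem sup_eq_of_defect [M.IsMaximal] (hM : IsPModular p M) {N K P : Subgroup G} {k : ℕ}
    (hNK : N ≤ K) (hKN : K ≤ Subgroup.normalizer (N : Set G)) (hidx : N.relIndex K = p ^ k)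
    {c : MonoidAlgebra (Blocks.Res M) G} (hc : IsBlockIdem N c)
    (hcK : c ∈ fixedBy (Blocks.Res M) K) (hP : IsDefectIn p K K c P) : P ⊔ N = K := by
  haveI := Blocks.fact_of_isPModular hM
  haveI := Blocks.charP_res hM
  haveI : IsAlgClosed (Blocks.Res M) := Blocks.isAlgClosed_res
  have h := hP.relIndex_ne_zero hc hcK hNK hKN
  rw [Ne, CharP.cast_eq_zero_iff (Blocks.Res M) p] at h
  have hle : P ⊔ N ≤ K := sup_le hP.1 hNK
  have hdvd : (P ⊔ N).relIndex K ∣ p ^ k := by
    rw [← hidx]
    exact Subgroup.relIndex_dvd_of_le_left K le_sup_right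
  obtain ⟨j, -, hj⟩ := (Nat.dvd_prime_pow hM.1).1 hdvd
  have h1 : (P ⊔ N).relIndex K = 1 := by
    rw [hj]
    rcases Nat.eq_zero_or_pos j with rfl | hpos
    · simp
    · exact absurd (hj ▸ dvd_pow_self p hpos.ne') h
  exact le_antisymm hle (Subgroup.relIndex_eq_one.1 h1)

/-- Nilpotency passes to and from a normal subgroup of `p`-power index with a stable block. -/
theorem isNilp_iff_of_index (hM : IsPModular p M) {N K : Subgroup G} {k : ℕ} (hNK : N ≤ K)
    (hKN : K ≤ Subgroup.normalizer (N : Set G)) (hidx : N.relIndex K = p ^ k)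
    {c : MonoidAlgebra (Blocks.Res M) G} (hc : IsBlockIdem N c)
    (hcK : c ∈ fixedBy (Blocks.Res M) K) :
    IsNilp p N c ↔ IsNilp p K c := by
  haveI := Blocks.fact_of_isPModular hM
  haveI := Blocks.charP_res hM
  have hp := hM.1
  have hreg : ∀ x ∈ K, ¬ p ∣ orderOf x → x ∈ N := fun x hx => mem_of_relIndex_eq_pow hp hKN hidx hx
  have hbK := isBlockIdem_of_regular hM hNK hreg hc hcK
  -- idempotents of the centre over a centraliser in `K` live in the centraliser in `N`
  have hsupp : ∀ Q : Subgroup G, ∀ h, IsBlockIdem (cenIn K Q) h →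
      h ∈ ctr (Blocks.Res M) (cenIn N Q) := fun Q h hh =>
    mem_ctr.2 ⟨mem_supp_of_regular hM (fun x hx hr => Subgroup.mem_inf.2
      ⟨hreg x (Subgroup.mem_inf.1 hx).1 hr, (Subgroup.mem_inf.1 hx).2⟩) hh.mem hh.mul_self,
      fixedBy_anti (inf_le_inf_right _ hNK) (mem_ctr.1 hh.mem).2⟩
  constructor
  · intro hnil Q h hh x hx hxreg
    obtain ⟨hxK, hxQ, hxh⟩ := mem_pairStab.1 hx
    have hxN : x ∈ N := hreg x hxK hxreg
    set R := Q ⊓ N with hR
    obtain ⟨hR', hle, hRuniq⟩ := existsUnique_pairLE hh.1 (inf_le_left : R ≤ Q)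
    have hRp := hle.isPair_left hh.1
    have hxR : x ∈ Subgroup.normalizer (R : Set G) := by
      refine Subgroup.mem_normalizer_iff.2 fun u => ?_
      simp only [hR, Subgroup.mem_inf]
      exact and_congr (Subgroup.mem_normalizer_iff.1 hxQ u)
        (Subgroup.mem_normalizer_iff.1 (hKN hxK) u)
    have hxhR : conjA x hR' = hR' := by
      have := hle.conj (c := x) hxK
      rw [cj_of_mem_normalizer hxR, cj_of_mem_normalizer hxQ, hxh] at this
      exact hRuniq _ this
    have hpR : PairOf p K c R hR' := (hle.pairOf_iff hbK).2 hh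
    have hhR : hR' ∈ ctr (Blocks.Res M) (cenIn N R) := hsupp R hR' hRp.2.2
    obtain ⟨f, hf, hfne⟩ := exists_isBlockIdem_mul_ne_zero (cenIn N R) hRp.2.2.ne_zero
    have hfh : f * hR' = f := (hf.2.2.2 hR' hhR hRp.2.2.mul_self).resolve_left (by
      rwa [(ctr_commute hf.mem hhR).eq])
    have hCn : cenIn K R ≤ Subgroup.normalizer (cenIn N R : Set G) := fun y hy =>
      Subgroup.mem_normalizer_iff.2 fun u => by
        have h1 := Subgroup.mem_normalizer_iff.1 (hKN (Subgroup.mem_inf.1 hy).1) u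
        have h2 := Subgroup.mem_normalizer_iff.1
          (Subgroup.le_normalizer (Subgroup.mem_inf.1 hy).2) u
        simp only [Subgroup.mem_inf]
        exact and_congr h1 h2
    have hxC : x ∈ Subgroup.normalizer (cenIn N R : Set G) := mem_normalizer_cenIn hxN hxR
    -- the conjugates of `f` under `C_K(R)` are the blocks below `hR'`
    have horbit : ∀ g, IsBlockIdem (cenIn N R) g → g * hR' = g →
        ∃ y ∈ cenIn K R, g = conjA y f := by
      intro g hg hgh
      by_contra hno
      push Not at hno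
      haveI := Fintype.ofFinite
        (↥(cenIn K R) ⧸ (cenIn K R ⊓ stabA f).subgroupOf (cenIn K R))
      set F := relTr (cenIn K R ⊓ stabA f) (cenIn K R) f with hF
      have hFctr : F ∈ ctr (Blocks.Res M) (cenIn K R) := mem_ctr.2
        ⟨relTr_mem_supp Subgroup.le_normalizer
          (supp_mono (inf_le_inf_right _ hNK) (mem_ctr.1 hf.mem).1),
          relTr_mem_fixedBy _ _ fun u hu => (Subgroup.mem_inf.1 hu).2⟩
      have hFg : F * g = 0 := by
        rw [hF, relTr_apply, Finset.sum_mul]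
        exact Finset.sum_eq_zero fun q _ => (hf.conj (hCn (q.out : cenIn K R).2)).mul_eq_zero_of_ne
          hg fun h => hno _ (q.out : cenIn K R).2 h.symm
      have hFf : F * f = f := by
        rw [hF, relTr_apply, Finset.sum_mul,
          Finset.sum_eq_single (QuotientGroup.mk (1 : cenIn K R))]
        · rw [conjA_out (fun u hu => (Subgroup.mem_inf.1 hu).2 : f ∈ fixedBy (Blocks.Res M)
            (cenIn K R ⊓ stabA f)), Subgroup.coe_one, conjA_one, hf.mul_self]
        · intro q _ hq
          refine (hf.conj (hCn (q.out : cenIn K R).2)).mul_eq_zero_of_ne hf fun h => hq ?_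
          rw [← QuotientGroup.out_eq' q, QuotientGroup.eq, Subgroup.mem_subgroupOf]
          simpa using (cenIn K R ⊓ stabA f).inv_mem
            (Subgroup.mem_inf.2 ⟨(q.out : cenIn K R).2, h⟩)
        · exact fun h => absurd (Finset.mem_univ _) h
      rcases hRp.2.2.nilpotent_or_inverse hFctr with ⟨n, hn⟩ | ⟨w, hw, -, hwy⟩
      · have hpow : ∀ m, f * (F * hR') ^ m = f := by
          intro m
          induction m with
          | zero => rw [pow_zero, mul_one]
          | succ m ih =>
            rw [pow_succ, ← mul_assoc, ih, ← mul_assoc]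
            rw [(commute_of_fixedBy_of_supp (fixedBy_anti (inf_le_inf_right _ hNK)
              (mem_ctr.1 hFctr).2) (mem_ctr.1 hf.mem).1).symm.eq, hFf, hfh]
        exact hf.ne_zero (by rw [← hpow n, hn, mul_zero])
      · apply hg.ne_zero
        have hcF := ctr_commute hFctr hRp.2.2.mem
        calc g = g * hR' := hgh.symm
          _ = g * (w * (F * hR')) := by rw [hwy]
          _ = g * (F * hR' * w) := by rw [(ctr_commute hw (mul_mem hFctr hRp.2.2.mem)).eq]
          _ = g * F * hR' * w := by simp only [mul_assoc]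
          _ = 0 := by
            rw [(commute_of_fixedBy_of_supp (fixedBy_anti (inf_le_inf_right _ hNK)
              (mem_ctr.1 hFctr).2) (mem_ctr.1 hg.mem).1).symm.eq, hFg, zero_mul, zero_mul]
    -- `x` fixes `f`
    have hxf : conjA x f = f := by
      obtain ⟨y, hy, hyf⟩ := horbit (conjA x f) (hf.conj hxC) (by
        conv_rhs => rw [← hfh]
        rw [map_mul, hxhR])
      obtain ⟨hyK, hyC⟩ := Subgroup.mem_inf.1 hy
      have hz : (y⁻¹ * x) * y * (y⁻¹ * x)⁻¹ * y⁻¹ ∈ cenIn N R := by
        refine Subgroup.mem_inf.2 ⟨?_, ?_⟩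
        · have h1 : y⁻¹ * x * y ∈ N :=
            (Subgroup.mem_normalizer_iff''.1 (hKN hyK) x).1 hxN
          have := N.mul_mem h1 (N.inv_mem hxN)
          simpa [mul_assoc] using this
        · have h1 : x * y * x⁻¹ ∈ Subgroup.centralizer (R : Set G) :=
            (Subgroup.mem_normalizer_iff.1 (normalizer_le_normalizer_cen R hxR) y).1 hyC
          have := mul_mem (mul_mem (inv_mem hyC) h1) (mul_mem hyC (inv_mem hyC))
          simpa [mul_assoc] using this
      set T := stabA f with hT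
      have hNT : cenIn N R ≤ T := fun u hu => mem_stabA.2 ((mem_ctr.1 hf.mem).2 u hu)
      have hw : y⁻¹ * x ∈ T := mem_stabA.2 (by rw [conjA_mul, hyf, conjA_inv_conjA])
      -- powers of `x` move `f` like powers of `y`
      have hpow : ∀ m : ℕ, conjA (x ^ m) f = conjA (y ^ m) f := by
        intro m
        induction m with
        | zero => simp
        | succ m ih =>
          rw [pow_succ, conjA_mul, hyf, ← conjA_mul]
          have hcomm : (y * x ^ m)⁻¹ * (x ^ m * y) ∈ cenIn N R := by
            refine Subgroup.mem_inf.2 ⟨?_, ?_⟩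
            · have h1 : y⁻¹ * x ^ m * y ∈ N :=
                (Subgroup.mem_normalizer_iff''.1 (hKN hyK) _).1 (N.pow_mem hxN m)
              have := N.mul_mem (N.inv_mem (N.pow_mem hxN m)) h1
              simpa [mul_assoc] using this
            · have h1 : (x ^ m)⁻¹ * y⁻¹ * x ^ m ∈ Subgroup.centralizer (R : Set G) :=
                (Subgroup.mem_normalizer_iff''.1
                  (normalizer_le_normalizer_cen R (pow_mem hxR m)) _).1 (inv_mem hyC)
              have := mul_mem h1 hyC
              simpa [mul_assoc] using this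
          have e1 : x ^ m * y = y * x ^ m * ((y * x ^ m)⁻¹ * (x ^ m * y)) := by group
          rw [e1, conjA_mul, mem_stabA.1 (hNT hcomm), conjA_mul, ih, ← conjA_mul, ← pow_succ']
      set m := orderOf x
      have hym : y ^ m ∈ T := mem_stabA.2 (by rw [← hpow m, pow_orderOf_eq_one, conjA_one])
      have hyk : y ^ p ^ k ∈ T := by
        haveI := Subgroup.normal_subgroupOf_of_le_normalizer hKN
        have h := Subgroup.pow_index_mem (N.subgroupOf K) ⟨y, hyK⟩
        rw [Subgroup.mem_subgroupOf, Subgroup.coe_pow, ← Subgroup.relIndex, hidx] at h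
        exact hNT (Subgroup.mem_inf.2 ⟨h, pow_mem hyC _⟩)
      have hyT : y ∈ T := by
        have hcop : Nat.Coprime m (p ^ k) := ((hp.coprime_iff_not_dvd.2 hxreg).symm).pow_right _
        have := Nat.gcd_eq_gcd_ab m (p ^ k)
        rw [hcop.gcd_eq_one] at this
        have hy1 : y = (y ^ m) ^ Nat.gcdA m (p ^ k) * (y ^ p ^ k) ^ Nat.gcdB m (p ^ k) := by
          rw [← zpow_natCast y m, ← zpow_natCast y (p ^ k), ← zpow_mul, ← zpow_mul, ← zpow_add]
          rw [← this]
          simp
        rw [hy1]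
        exact mul_mem (zpow_mem hym _) (zpow_mem hyk _)
      rw [hyf, mem_stabA.1 hyT]
    have hfp : PairOf p N c R f := by
      refine ⟨⟨hRp.1, inf_le_right, hf⟩, ?_⟩
      rw [← hfh, (ctr_commute hf.mem hhR).eq, ← mul_assoc, hpR.2]
    have hxR' : x ∈ Subgroup.centralizer (R : Set G) :=
      hnil R f hfp x (mem_pairStab.2 ⟨hxN, hxR, hxf⟩) hxreg
    rw [Subgroup.mem_centralizer_iff]
    intro u hu
    have h1 : x * u * x⁻¹ ∈ Q := (Subgroup.mem_normalizer_iff.1 hxQ u).1 hu
    set r := x * u * x⁻¹ * u⁻¹ with hr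
    have hrR : r ∈ R := Subgroup.mem_inf.2 ⟨Q.mul_mem h1 (Q.inv_mem hu), by
      have h2 : u * x⁻¹ * u⁻¹ ∈ N :=
        (Subgroup.mem_normalizer_iff.1 (hKN (hh.1.2.1 hu)) _).1 (N.inv_mem hxN)
      simpa [hr, mul_assoc] using N.mul_mem hxN h2⟩
    have hxr : Commute x r := (Subgroup.mem_centralizer_iff.1 hxR' r hrR).symm
    have hpowu : ∀ j : ℕ, x ^ j * u * (x ^ j)⁻¹ = r ^ j * u := by
      intro j
      induction j with
      | zero => simp
      | succ j ih =>
        have e : x * u * x⁻¹ = r * u := by simp [hr]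
        calc x ^ (j + 1) * u * (x ^ (j + 1))⁻¹ = x * (x ^ j * u * (x ^ j)⁻¹) * x⁻¹ := by
              rw [pow_succ']; group
          _ = x * r ^ j * u * x⁻¹ := by rw [ih]; group
          _ = r ^ j * (x * u * x⁻¹) := by rw [(hxr.pow_right j).eq]; group
          _ = r ^ (j + 1) * u := by rw [e, ← mul_assoc, ← pow_succ]
    have hr1 : r = 1 := by
      have h2 := hpowu (orderOf x)
      rw [pow_orderOf_eq_one, one_mul, inv_one, mul_one] at h2
      have h3 : r ^ orderOf x = 1 := mul_right_cancel (h2.symm.trans (one_mul u).symm)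
      obtain ⟨j, hj⟩ := IsPGroup.iff_orderOf.1 hh.1.1 ⟨r, (inf_le_left : R ≤ Q) hrR⟩
      rw [Subgroup.orderOf_mk] at hj
      have h4 : orderOf r ∣ orderOf x := orderOf_dvd_of_pow_eq_one h3
      rw [hj] at h4
      rcases Nat.eq_zero_or_pos j with rfl | hpos
      · rwa [pow_zero, orderOf_eq_one_iff] at hj
      · exact absurd (dvd_trans (dvd_pow_self p hpos.ne') h4) hxreg
    rw [hr, mul_inv_eq_one, mul_inv_eq_iff_eq_mul] at hr1
    exact hr1.symm
  · intro hnil Q f hf x hx hxreg
    obtain ⟨hxN, hxQ, hxf⟩ := mem_pairStab.1 hx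
    obtain ⟨⟨hQp, hQN, hfb⟩, hfc⟩ := hf
    obtain ⟨h, hh, hne⟩ := exists_isBlockIdem_mul_ne_zero (cenIn K Q) hfb.ne_zero
    have hhC := hsupp Q h hh
    have hfh : f * h = f := (hfb.2.2.2 h hhC hh.mul_self).resolve_left hne
    have hxC : x ∈ Subgroup.normalizer (cenIn K Q : Set G) := mem_normalizer_cenIn (hNK hxN) hxQ
    have hxh : conjA x h = h := by
      refine ((hh.conj hxC).eq_of_mul_ne_zero hh fun h0 => hfb.ne_zero ?_)
      have hfx : f * conjA x h = f := by
        conv_lhs => rw [← hxf, ← map_mul, hfh, hxf]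
      calc f = f * conjA x h * h := by rw [hfx, hfh]
        _ = 0 := by rw [mul_assoc, h0, mul_zero]
    have hp' : IsPair p K Q h := ⟨hQp, hQN.trans hNK, hh⟩
    have hpair : PairOf p K c Q h := ⟨hp', (hp'.brau_mul_dichotomy
      (supp_mono hNK (mem_ctr.1 hc.mem).1) (fixedBy_anti inf_le_left hcK)
      (fixedBy_anti (hQN.trans hNK) hcK) hc.mul_self).resolve_left fun h0 => hfb.ne_zero (by
        have h1 : brau Q c * h * f = f := by
          rw [mul_assoc, (ctr_commute hhC hfb.mem).eq, hfh, hfc]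
        rw [← h1, h0, zero_mul])⟩
    exact hnil Q h hpair x (mem_pairStab.2 ⟨hNK hxN, hxQ, hxh⟩) hxreg

end CfsgLib.BrauerPairs
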