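import Cfsg.Agent.Lib.BlockStar.Nilpotent
import Cfsg.Agent.Lib.BlockStar.LocalRank

/-!
# Values at idempotents along a homomorphism

If the restriction of a character along a homomorphism is a combination of irreducible characters,
so is its value at the image of an idempotent.
-/

set_option autoImplicit false
set_option linter.style.haveILetI false
set_option linter.unusedSectionVars false

namespace CfsgLib.BrauerPairs

open Cfsg CfsgLib.Blocks MonoidAlgebra
open CfsgLib.BlockStar (chiSum val)

variable {H : Type*} [Group H] [Fintype H] {G : Type*} [Group G] [Fintype G] {M : Ideal AlgInt}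
  [M.IsPrime]

theorem chiSum_mapDomain (φ : H →* G) (η : IrrCharacter G) (z : MonoidAlgebra (locRing M) H) :
    chiSum η (mapDomainRingHom (locRing M) φ z) =
      ∑ h, (z.coeff h : ℂ) * (η : G → ℂ) (φ h) := by
  classical
  induction z using MonoidAlgebra.induction_linear with
  | zero => simp [chiSum]
  | add a b ha hb =>
    rw [map_add, BlockStar.chiSum_add, ha, hb, ← Finset.sum_add_distrib]
    exact Finset.sum_congr rfl fun h _ => by simp; ring
  | single h r =>
    simp [chiSum, mapDomainRingHom, MonoidAlgebra.coeff_single, Finsupp.single_apply,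
      ite_mul, apply_ite ((↑) : locRing M → ℂ)]

/-- The value at the image of an idempotent, read off a decomposition of the restriction. -/
theorem val_mapG (φ : H →* G) {η : IrrCharacter G} {ι : Type*} (s : Finset ι) (m : ι → ℂ)
    (ξ : ι → IrrCharacter H)
    (hres : ∀ h, (η : G → ℂ) (φ h) = ∑ i ∈ s, m i * (ξ i : H → ℂ) h)
    {a : H} {ε : MonoidAlgebra (Res M) H} (hε : ε * ε = ε) (hc : Commute (single a 1) ε) :
    val η (φ a) (mapG φ ε) = ∑ i ∈ s, m i * val (ξ i) a ε := by
  classical
  obtain ⟨E, hE, hEm, hEc⟩ := BlockStar.exists_lift_fixed hε hc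
  have hE' : mapDomainRingHom (locRing M) φ E * mapDomainRingHom (locRing M) φ E =
      mapDomainRingHom (locRing M) φ E := by rw [← map_mul, hE]
  have hm : mapRingHom G (red M) (mapDomainRingHom (locRing M) φ E) = mapG φ ε := by
    rw [← hEm]
    clear hE hEm hEc hE'
    induction E using MonoidAlgebra.induction_linear with
    | zero => simp
    | add a b ha hb => rw [map_add, map_add, map_add, map_add, ha, hb]
    | single g r => simp [mapG, mapDomainRingHom]
  have hsingle : mapDomainRingHom (locRing M) φ (single a 1) = single (φ a) 1 := by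
    simp [mapDomainRingHom]
  have hc' : Commute (single (φ a) (1 : locRing M)) (mapDomainRingHom (locRing M) φ E) := by
    rw [← hsingle]; exact hEc.map _
  rw [BlockStar.val_eq η hE' hm hc', ← hsingle, ← map_mul, chiSum_mapDomain]
  simp only [hres, Finset.mul_sum]
  rw [Finset.sum_comm]
  refine Finset.sum_congr rfl fun i _ => ?_
  rw [BlockStar.val_eq (ξ i) hE hEm hEc, chiSum, Finset.mul_sum]
  exact Finset.sum_congr rfl fun h _ => by ring

/-- The value at an idempotent of a subgroup, from the restriction. -/
theorem val_subtype (K : Subgroup G) [Fintype K] [Fintype (IrrCharacter K)] (η : IrrCharacter G)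
    {a : K} {ε : MonoidAlgebra (Res M) K} (hε : ε * ε = ε) (hc : Commute (single a 1) ε) :
    val η (a : G) (mapG K.subtype ε) =
      ∑ ξ : IrrCharacter K, (subMult K η ξ : ℂ) * val ξ a ε := by
  refine val_mapG K.subtype Finset.univ _ id (fun h => ?_) hε hc
  have h1 := subFun_univ K η h
  rw [subFun, show BrauerCharacters.blockFinset (Set.univ : Set (IrrCharacter K)) =
    Finset.univ by ext; simp] at h1
  exact h1.symm

/-- Transport of the value along an isomorphism. -/
theorem val_comp_iso (σ : H ≃* G) (η : IrrCharacter G) (ξ : IrrCharacter H)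
    (hξ : ∀ h, (η : G → ℂ) (σ h) = (ξ : H → ℂ) h) {a : H} {ε : MonoidAlgebra (Res M) H}
    (hε : ε * ε = ε) (hc : Commute (single a 1) ε) :
    val η (σ a) (mapG σ.toMonoidHom ε) = val ξ a ε := by
  have := val_mapG σ.toMonoidHom (η := η) ({()} : Finset Unit) (fun _ => 1) (fun _ => ξ)
    (fun h => by simpa using hξ h) hε hc
  simpa using this

end CfsgLib.BrauerPairs
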